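import Mathlib
import Cfsg.Agent.ChevalleyStructure.D4U
import Cfsg.Agent.ChevalleyStructure.D4NConj

/-!
# The six long root elements of `³D₄(q)`, `q` even, with parameter `1` (task 1210)

* `comm_one` : `⁅x_r(1), x_s(1)⁆ = x_k(1)`;
* `mem14`, ... : they lie in `twistedD4 K q`.
-/

set_option autoImplicit false
set_option linter.unusedSectionVars false

namespace Cfsg.Agent.H640.TD

open Cfsg.Lie
open Cfsg.Agent.ChevalleyStructure.LaurentWord Cfsg.Agent.ChevalleyStructure.D4Tab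
  Cfsg.Agent.ChevalleyStructure.D4NCheck Cfsg.Agent.ChevalleyStructure.D4NConj
  Cfsg.Agent.ChevalleyStructure.D4Comm Cfsg.Agent.ChevalleyStructure.D4U
open scoped commutatorElement

/-- the check `x_r(t) x_s(u) = x_k(e t u) x_s(u) x_r(t)` -/
def chk (r s k : ℕ) (e : ℤ) : Bool :=
  checkEq 28 24 tcols [(r, 1, 1, 0), (s, 1, 0, 1)] [(k, e, 1, 1), (s, 1, 0, 1), (r, 1, 1, 0)]

variable {K : Type*} [Field K] [CharP K 2]

theorem cast_sign {e : ℤ} (he : e = 1 ∨ e = -1) : (e : K) = 1 := by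
  rcases he with rfl | rfl
  · exact Int.cast_one
  · rw [Int.cast_neg, Int.cast_one]
    have h2 : (2 : K) = 0 := CharTwo.two_eq_zero
    linear_combination (-1 : K) * h2

theorem comm_one {r s k : ℕ} {e : ℤ} (he : e = 1 ∨ e = -1) (h : chk r s k e = true) :
    ⁅(xG r (1 : K) : GL chevD4.Idx K), (xG s (1 : K) : GL chevD4.Idx K)⁆ = xG k (1 : K) := by
  have h1 := wordG_eq_of_checkEq (F := K) (one_ne_zero) (one_ne_zero) h
  have e1 : wordG (evW (1 : K) 1 [(r, 1, 1, 0), (s, 1, 0, 1)]) = xG r 1 * xG s 1 := by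
    simp [evW, wordG, evM]
  have e2 : wordG (evW (1 : K) 1 [(k, e, 1, 1), (s, 1, 0, 1), (r, 1, 1, 0)]) = xG k 1 * (xG s 1 * xG r 1) := by
    have := cast_sign (K := K) he
    simp [evW, wordG, evM, this]
  rw [e1, e2] at h1
  rw [commutatorElement_def, h1]
  group

theorem comm9_22 : (xG 9 1 : GL chevD4.Idx K) * xG 22 1 = xG 22 1 * xG 9 1 := by
  have h : checkEq 28 24 tcols [(9, 1, 1, 0), (22, 1, 0, 1)] [(22, 1, 0, 1), (9, 1, 1, 0)] = true := by decide +kernel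
  have h1 := wordG_eq_of_checkEq (F := K) (one_ne_zero) (one_ne_zero) h
  simpa [evW, wordG, evM] using h1

theorem nG_conj_one {i s : ℕ} (hi : i < 4) (hs : s < 24) :
    nG K i * xG s 1 * (nG K i)⁻¹ = xG (rfl' i s) 1 := by
  rw [nG_conj hi hs, mul_one, cast_sign (eta_cases hi hs)]

theorem na_conj_one {s : ℕ} (hs : s < 24) : na K * xG s 1 * (na K)⁻¹ = xG (rfl' 1 s) 1 := nG_conj_one (by norm_num) hs

theorem nb_conj_one {s : ℕ} (hs : s < 24) : nb K * xG s 1 * (nb K)⁻¹ = xG (rb s) 1 := by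
  have h3 := rfl'_lt (i := 3) (by norm_num) hs
  have h2 := rfl'_lt (i := 2) (by norm_num) h3
  have e : nb K * xG s 1 * (nb K)⁻¹ =
      nG K 0 * (nG K 2 * (nG K 3 * xG s 1 * (nG K 3)⁻¹) * (nG K 2)⁻¹) * (nG K 0)⁻¹ := by
    unfold nb
    group
  rw [e, nG_conj_one (by norm_num) hs, nG_conj_one (by norm_num) h3, nG_conj_one (by norm_num) h2]
  rfl

section Mem

variable {q : ℕ} {φ : K →+* K} (hφ : ∀ x, φ x = x ^ q) (h14 : (xG 14 1 : GL chevD4.Idx K) ∈ twistedD4 K q)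
  (h9 : (xG 9 1 : GL chevD4.Idx K) ∈ twistedD4 K q)

include hφ h14 in
theorem mem22 : (xG 22 1 : GL chevD4.Idx K) ∈ twistedD4 K q := by
  have h : rb 14 = 22 := by decide
  rw [← h, ← nb_conj_one (by norm_num)]
  exact mul_mem (mul_mem (nb_mem hφ) h14) (inv_mem (nb_mem hφ))

include hφ h14 in
theorem mem23 : (xG 23 1 : GL chevD4.Idx K) ∈ twistedD4 K q := by
  have h : rfl' 1 22 = 23 := by decide
  rw [← h, ← na_conj_one (by norm_num)]
  exact mul_mem (mul_mem (na_mem hφ) (mem22 hφ h14)) (inv_mem (na_mem hφ))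

include hφ h9 in
theorem mem1 : (xG 1 1 : GL chevD4.Idx K) ∈ twistedD4 K q := by
  have h : rb 9 = 1 := by decide
  rw [← h, ← nb_conj_one (by norm_num)]
  exact mul_mem (mul_mem (nb_mem hφ) h9) (inv_mem (nb_mem hφ))

include hφ h9 in
theorem mem0 : (xG 0 1 : GL chevD4.Idx K) ∈ twistedD4 K q := by
  have h : rfl' 1 1 = 0 := by decide
  rw [← h, ← na_conj_one (by norm_num)]
  exact mul_mem (mul_mem (na_mem hφ) (mem1 hφ h9)) (inv_mem (na_mem hφ))

end Mem

theorem chk_all : chk 14 22 23 1 = true ∧ chk 9 23 22 1 = true ∧ chk 1 23 14 (-1) = true ∧ chk 14 0 1 (-1) = true ∧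
    chk 22 0 9 1 = true ∧ chk 9 1 0 (-1) = true := by
  refine ⟨?_, ?_, ?_, ?_, ?_, ?_⟩ <;> decide +kernel

end Cfsg.Agent.H640.TD
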