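import Mathlib
import Cfsg.Agent.H459.RgdRad

/-!
# Radical automorphisms of order three of a group with a root group datum of rank two, `|P₀ : B| ≤ 3` (task 1210)

* `fixed_of_index_le` : `z ^ 3 = 1`, `z` fixes `B` and `M`, `|M : B| ≤ 3`: `z` acts trivially on `M / B`;
* `eq_one_of_B` : `RC x`, `x ^ 3 = 1`, `x` fixes `B` ⇒ `x = 1` (`|P₀ : B| ≤ 3`, `P₁` not solvable);
* `iv_B` : `RC x`, `x` fixes `P₁` ⇒ `x` fixes `B`.
-/

set_option autoImplicit false
set_option linter.unusedSectionVars false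

namespace Cfsg.Agent.H640.TD

open Cfsg Subgroup Cfsg.Agent.H459.Rad Cfsg.Agent.H459.Gallery Cfsg.Agent.H459.NonEll Cfsg.Agent.H459.Iface
open Cfsg.Agent.H459.RgdRad
open Cfsg.Agent.Schreier.BNSch Cfsg.Agent.FixBN

/-- **three points** -/
theorem fixed_of_index_le {K : Type*} [Group K] [Finite K] {B M : Subgroup K} (hi : B.relIndex M ≤ 3)
    {z : MulAut K} (hz : z ^ 3 = 1) (hzB : Iv z B) (hzM : Iv z M) (hBM : B ≤ M) : ∀ k ∈ M, k⁻¹ * z k ∈ B := by
  classical
  have h3 : Fact (Nat.Prime 3) := ⟨Nat.prime_three⟩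
  set Ω := M ⧸ B.subgroupOf M with hΩ
  have hfin : Fintype Ω := Fintype.ofFinite _
  have hcard : Fintype.card Ω ≤ 3 := by
    rw [← Nat.card_eq_fintype_card]
    exact hi
  let f : Function.End Ω := Quotient.map' (fun m : M => (⟨z m, hzM m m.2⟩ : M)) (by
    intro a b hab
    rw [QuotientGroup.leftRel_apply, mem_subgroupOf] at hab ⊢
    have h1 := hzB _ hab
    rw [Subgroup.coe_mul, InvMemClass.coe_inv, map_mul, map_inv] at h1
    exact h1)
  have hf : ∀ m : M, f (QuotientGroup.mk m) = QuotientGroup.mk ⟨z m, hzM m m.2⟩ := fun m => rfl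
  have hz3 : ∀ k, z (z (z k)) = k := by
    intro k
    have h1 := congrArg (fun y : MulAut K => y k) hz
    simpa [pow_succ] using h1
  have hf3 : f ^ 3 ^ 1 = 1 := by
    funext w
    obtain ⟨m, rfl⟩ := QuotientGroup.mk_surjective w
    show f (f (f (QuotientGroup.mk m))) = QuotientGroup.mk m
    rw [hf, hf, hf]
    exact congrArg _ (Subtype.ext (hz3 m))
  have hmod := Equiv.Perm.card_fixedPoints_modEq (p := 3) (n := 1) hf3
  have hle : Fintype.card (Function.fixedPoints f) ≤ Fintype.card Ω := Fintype.card_subtype_le _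
  have hpos : 0 < Fintype.card (Function.fixedPoints f) := by
    refine Fintype.card_pos_iff.2 ⟨⟨QuotientGroup.mk 1, ?_⟩⟩
    show f (QuotientGroup.mk 1) = QuotientGroup.mk 1
    rw [hf]
    exact congrArg _ (Subtype.ext (map_one z))
  have heq : Fintype.card (Function.fixedPoints f) = Fintype.card Ω := by
    unfold Nat.ModEq at hmod
    omega
  intro k hk
  have h4 : (QuotientGroup.mk (⟨k, hk⟩ : M) : Ω) ∈ Function.fixedPoints f := by
    have h5 : Function.fixedPoints f = Set.univ := by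
      apply Set.eq_of_subset_of_ncard_le (Set.subset_univ _)
      rw [Set.ncard_univ, ← Nat.card_coe_set_eq, Nat.card_eq_fintype_card, Nat.card_eq_fintype_card, heq]
    rw [h5]
    trivial
  have h6 : f (QuotientGroup.mk (⟨k, hk⟩ : M)) = QuotientGroup.mk (⟨k, hk⟩ : M) := h4
  rw [hf] at h6
  have h7 := QuotientGroup.eq.1 h6.symm
  exact mem_subgroupOf.1 h7

open CoxeterSystem Cfsg.Agent.ChevalleyStructure.CoxeterGeom Cfsg.Agent.Tits.Roots
  Cfsg.Agent.Nodes.Reps Cfsg.Agent.Nodes.BNOf Cfsg.Agent.Nodes.LeviDec Cfsg.Agent.KFacts.RgdCharP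
  Cfsg.Agent.KFacts.RgdVJ

variable {G : Type*} [Group G] {M : CoxeterMatrix (Fin 2)} {W : Type*} [Group W]
  {cs : CoxeterSystem M W} {C : Fin 2 → Fin 2 → ℤ} {h : IsCartan M C} {r : ℕ} {T : Subgroup G} {n : Fin 2 → G}
  {X : (Fin 2 → ℤ) → Subgroup G}

section

variable [Finite W] [Finite G] (R : RGD cs h r T n X) (hgen : RGD.B cs h T X ⊔ NN cs R.nsys = ⊤)

include R in
/-- no diagram symmetries of order three -/
theorem rig_three {z : MulAut G} (hz3 : z ^ 3 = 1) (hzB : Iv z (R.bnPair hgen).B) (i : Fin 2) :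
    Iv z ((R.bnPair hgen).parabolic {n i}) := by
  set P := R.bnPair hgen with hP
  have hs : Set.range n = P.S := rfl
  have hadj : ∀ i j, i ≠ j → (H580.Graph.Adj M i j ↔ n i * n j * (n i)⁻¹ * (n j)⁻¹ ∉ P.B) := fun i j hij => adj_iff R hij
  obtain ⟨σ, hσ1, -⟩ := Cfsg.Agent.Schreier.BNGraph.exists_perm P n hs R.n_injective (H580.Graph.Adj M)
    (fun i hi => hi.1 rfl) hadj z hzB.map_eq
  have hpow : ∀ (k : ℕ) (i : Fin 2), (P.parabolic {n i}).map (z ^ k).toMonoidHom = P.parabolic {n ((σ ^ k) i)} := by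
    intro k
    induction k with
    | zero =>
      intro i
      rw [pow_zero, pow_zero]
      exact Subgroup.map_id _
    | succ k ih =>
      intro i
      have e2 : (z ^ (k + 1)).toMonoidHom = (z ^ k).toMonoidHom.comp z.toMonoidHom := by
        rw [pow_succ]; rfl
      rw [e2, ← Subgroup.map_map, hσ1, ih, pow_succ]
      rfl
  have hσk : σ ^ 3 = 1 := by
    ext i
    have h6 := hpow 3 i
    rw [hz3] at h6
    have h7 : P.parabolic {n i} = P.parabolic {n ((σ ^ 3) i)} := by
      rw [← h6]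
      exact (Subgroup.map_id _).symm
    have hsS : ∀ i, ({n i} : Set G) ⊆ P.S := fun i => Set.singleton_subset_iff.mpr (hs ▸ ⟨i, rfl⟩)
    have h8 := Cfsg.Agent.S0314.result P (hsS _) (hsS _) h7
    exact congrArg Fin.val (R.n_injective (Set.singleton_eq_singleton_iff.mp h8)).symm
  have hσ : σ = 1 := by
    have key : ∀ τ : Equiv.Perm (Fin 2), τ ^ 3 = 1 → τ = 1 := by decide
    exact key σ hσk
  have h9 := hσ1 i
  rw [hσ] at h9
  exact iv_of_map_eq h9

theorem two_cases (i : Fin 2) : i = 0 ∨ i = 1 := by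
  revert i; decide

theorem cx_pow {x : MulAut G} {k : ℕ} (hx : x ^ k = 1) (g : G) : (cx x g) ^ k = 1 := by
  have e : cx x g = (MulAut.conj g)⁻¹ * x * ((MulAut.conj g)⁻¹)⁻¹ := by rw [inv_inv]; rfl
  rw [e, conj_pow, hx, mul_one, mul_inv_cancel]

/-- **a radical automorphism of order three fixing a Borel subgroup is trivial** -/
theorem eq_one_of_B [IsSimpleGroup G] (hBs : Group.IsSolvable (R.bnPair hgen).B) (h0 : Nat.card (X (sr 0)) ≤ 2)
    (h1 : ¬ Group.IsSolvable ((R.bnPair hgen).parabolic {n 1})) {x : MulAut G} (hR : RC x) (hx : x ^ 3 = 1)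
    (hB : Iv x (R.bnPair hgen).B) : x = 1 := by
  set P := R.bnPair hgen with hP
  have hne : P.S.Nonempty := ⟨n 0, 0, rfl⟩
  have hcore := Cfsg.Agent.Tits.OfBN.normalCore_eq_bot P hne
  refine eq_one P hcore fun g => ?_
  refine all_fixed P hR hBs ?_ ?_ ?_ hB g
  · rintro s hs
    obtain ⟨i, rfl⟩ : ∃ i, n i = s := hs
    refine parabolic_ne_top P (Set.singleton_subset_iff.2 (mem_S R hgen)) ?_
    intro he
    have h2 : ∀ j, n j ∈ ({n i} : Set G) := fun j => by
      rw [he]
      exact mem_S R hgen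
    have h3 : (0 : Fin 2) = 1 := by
      have h4 := R.n_injective (Set.mem_singleton_iff.1 (h2 0))
      have h5 := R.n_injective (Set.mem_singleton_iff.1 (h2 1))
      rw [h4, h5]
    exact absurd h3 (by decide)
  · rintro g hg s hs
    obtain ⟨i, rfl⟩ : ∃ i, n i = s := hs
    exact rig_three R hgen (cx_pow hx g) hg i
  · rintro g hg s hs hsol
    obtain ⟨i, rfl⟩ : ∃ i, n i = s := hs
    rcases two_cases i with rfl | rfl
    · refine fixed_of_index_le ?_ (cx_pow hx g) hg (rig_three R hgen (cx_pow hx g) hg 0) (B_le_parabolic P _)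
      exact (index_le R hgen 0).trans (by omega)
    · exact absurd hsol h1

/-- a radical automorphism fixing `P₁` fixes `B` -/
theorem iv_B (hBs : Group.IsSolvable (R.bnPair hgen).B)
    (h1 : ¬ Group.IsSolvable ((R.bnPair hgen).parabolic {n 1}))
    (hne : (R.bnPair hgen).parabolic {n 1} ≠ ⊤) {x : MulAut G} (hR : RC x)
    (hx : Iv x ((R.bnPair hgen).parabolic {n 1})) : Iv x (R.bnPair hgen).B := by
  set P := R.bnPair hgen with hP
  obtain ⟨L, hL, hLe, hLs, -⟩ := radIn_sup P hBs (L := {n 1}) (Set.singleton_subset_iff.2 (mem_S R hgen))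
  have hL0 : L = ∅ := by
    rcases Set.subset_singleton_iff_eq.1 hL with h2 | h2
    · exact h2
    · rw [h2] at hLs
      exact absurd hLs h1
  rw [hL0, parabolic_empty] at hLe
  have h3 := iv_of_sub P hR hne (Set.empty_subset _) hx (by rw [parabolic_empty, ← hLe]; exact le_sup_left)
  rwa [parabolic_empty] at h3

end

end Cfsg.Agent.H640.TD
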