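import Mathlib
import Cfsg.Agent.H459.Rad

/-!
# Six involutions generating `SL₃(2)` (task 1210, hub helper959)

`false_of_six` : `M = ⟨a, a', b, b', s, s'⟩` with the commutator relations of the root elements of `SL₃(2)`, `a ≠ 1`:
`a a'` is not in the radical of `M`.
`mem_radIn_of_conj` : if conjugation by `c ∈ M` is trivial modulo the radical of `M` then `c ∈ Rad M`.
`exists_conj_mem_nine` : a `3`-element is conjugate into a subgroup of order `9` in a group of order not divisible by `27`.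
-/

set_option autoImplicit false

namespace Cfsg.Agent.H640.TD

open Subgroup Cfsg.Agent.H459.Rad
open scoped commutatorElement

theorem mem_radIn_of_conj {G : Type*} [Group G] [Finite G] {M : Subgroup G} {c : G} (hc : c ∈ M)
    (h : ∀ m ∈ M, m⁻¹ * (c * m * c⁻¹) ∈ radIn M) : c ∈ radIn M := by
  have h1 : (⟨c, hc⟩ : M) ∈ Cfsg.solvableRadical M := by
    refine mem_rad_of_commutator fun g => ?_
    exact mem_radIn_coe.1 (h g g.2)
  exact mem_radIn_coe.2 h1

theorem false_of_six {G : Type*} [Group G] [Finite G] {a a' b b' s s' : G} {M : Subgroup G}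
    (hM : M = closure {a, a', b, b', s, s'}) (h1 : ⁅a, b⁆ = s) (h2 : ⁅a', s⁆ = b) (h3 : ⁅b', s⁆ = a)
    (h4 : ⁅a, s'⁆ = b') (h5 : ⁅b, s'⁆ = a') (h6 : ⁅a', b'⁆ = s') (h7 : a' * b = b * a') (ha : a ≠ 1)
    (hc : a * a' ∈ radIn M) : False := by
  have hsub : ∀ x ∈ ({a, a', b, b', s, s'} : Set G), x ∈ M := fun x hx => by rw [hM]; exact subset_closure hx
  have haM : a ∈ M := hsub _ (by simp)
  have ha'M : a' ∈ M := hsub _ (by simp)
  have hbM : b ∈ M := hsub _ (by simp)
  have hb'M : b' ∈ M := hsub _ (by simp)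
  have hsM : s ∈ M := hsub _ (by simp)
  have hs'M : s' ∈ M := hsub _ (by simp)
  set R := radIn M with hR
  have hn : ∀ g ∈ M, ∀ r ∈ R, g * r * g⁻¹ ∈ R := fun g hg r hr => radIn_conj_mem hg hr
  have hcl : ∀ g ∈ M, ∀ r ∈ R, ⁅g, r⁆ ∈ R := fun g hg r hr => mul_mem (hn g hg r hr) (inv_mem hr)
  have hcr : ∀ g ∈ M, ∀ r ∈ R, ⁅r, g⁆ ∈ R := by
    intro g hg r hr
    rw [commutatorElement_def]
    have e : r * g * r⁻¹ * g⁻¹ = r * (g * r⁻¹ * g⁻¹) := by group
    rw [e]
    exact mul_mem hr (hn g hg _ (inv_mem hr))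
  -- `s ∈ R`
  have hs : s ∈ R := by
    rw [← h1]
    have e : ⁅a, b⁆ = ⁅a * a', b⁆ := by
      rw [commutatorElement_def, commutatorElement_def]
      have e1 : a * a' * b * (a * a')⁻¹ * b⁻¹ = a * (a' * b) * a'⁻¹ * a⁻¹ * b⁻¹ := by group
      rw [e1, h7]
      group
    rw [e]
    exact hcr b hbM _ hc
  have hb : b ∈ R := by rw [← h2]; exact hcl _ ha'M _ hs
  have ha : a ∈ R := by rw [← h3]; exact hcl _ hb'M _ hs
  have hb' : b' ∈ R := by rw [← h4]; exact hcr _ hs'M _ ha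
  have ha' : a' ∈ R := by rw [← h5]; exact hcr _ hs'M _ hb
  have hs' : s' ∈ R := by rw [← h6]; exact hcl _ ha'M _ hb'
  have hMR : M ≤ R := by
    rw [hM, closure_le]
    rintro x (rfl | rfl | rfl | rfl | rfl | rfl) <;> assumption
  have hMs : Group.IsSolvable M := Cfsg.Agent.SignalizersComponents.ComponentExists.isSolvable_of_le hMR (radIn_solvable M)
  have hperf : ⁅M, M⁆ = M := by
    apply le_antisymm (commutator_le.2 fun g hg h hh =>
      M.mul_mem (M.mul_mem (M.mul_mem hg hh) (M.inv_mem hg)) (M.inv_mem hh))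
    conv_lhs => rw [hM]
    rw [closure_le]
    rintro x (rfl | rfl | rfl | rfl | rfl | rfl)
    · rw [← h3]; exact commutator_mem_commutator hb'M hsM
    · rw [← h5]; exact commutator_mem_commutator hbM hs'M
    · rw [← h2]; exact commutator_mem_commutator ha'M hsM
    · rw [← h4]; exact commutator_mem_commutator haM hs'M
    · rw [← h1]; exact commutator_mem_commutator haM hbM
    · rw [← h6]; exact commutator_mem_commutator ha'M hb'M
  have h8 : Group.IsPerfect M := Subgroup.isPerfect_iff.mpr hperf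
  have hnt : Nontrivial M := ⟨⟨⟨a, haM⟩, 1, fun h => ‹a ≠ 1› (congrArg Subtype.val h)⟩⟩
  exact Group.IsPerfect.not_isSolvable _ hMs

/-- an element of order `3` is conjugate into a subgroup of order `9` -/
theorem exists_conj_mem_nine {A : Type*} [Group A] [Finite A] {H S : Subgroup A} (hS : S ≤ H) (hc : Nat.card S = 9)
    (hH : ¬ 27 ∣ Nat.card H) {y : A} (hy : y ∈ H) (hy3 : y ^ 3 = 1) : ∃ h ∈ H, h * y * h⁻¹ ∈ S := by
  have h3 : Fact (Nat.Prime 3) := ⟨Nat.prime_three⟩
  have hcS : Nat.card (S.subgroupOf H) = 9 := by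
    rw [← hc]; exact Nat.card_congr (subgroupOfEquivOfLe hS).toEquiv
  have hSp : IsPGroup 3 ↥(S.subgroupOf H) := IsPGroup.of_card (n := 2) (by rw [hcS]; norm_num)
  have hidx : ¬ 3 ∣ (S.subgroupOf H).index := by
    intro h
    apply hH
    rw [← (S.subgroupOf H).card_mul_index, hcS]
    exact mul_dvd_mul (by norm_num : 9 ∣ 9) h
  let P : Sylow 3 H := hSp.toSylow hidx
  have hy' : IsPGroup 3 ↥(zpowers (⟨y, hy⟩ : H)) := by
    rw [IsPGroup.iff_orderOf]
    rintro ⟨z, hz⟩
    have h1 : orderOf z ∣ 3 := (orderOf_dvd_of_mem_zpowers hz).trans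
      (orderOf_dvd_of_pow_eq_one (Subtype.ext (by simpa using hy3)))
    rw [Subgroup.orderOf_mk]
    rcases (Nat.dvd_prime Nat.prime_three).1 h1 with h2 | h2
    · exact ⟨0, by rw [h2, pow_zero]⟩
    · exact ⟨1, by rw [h2, pow_one]⟩
  obtain ⟨Q, hQ⟩ := hy'.exists_le_sylow
  obtain ⟨h, hh⟩ := MulAction.exists_smul_eq ↥H Q P
  refine ⟨h, h.2, ?_⟩
  have h4 : h * ⟨y, hy⟩ * h⁻¹ ∈ (P : Subgroup H) := by
    rw [← hh, Sylow.coe_subgroup_smul]
    exact smul_mem_pointwise_smul _ (MulAut.conj h) _ (hQ (mem_zpowers _))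
  exact mem_subgroupOf.1 h4

end Cfsg.Agent.H640.TD
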