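import Mathlib
import Cfsg.Agent.H640.TD.Frame
import Cfsg.Agent.H959.Rad3.Iface
import Cfsg.Agent.H839.Rad.Base
import Cfsg.Agent.H69.OutTwD4
import Cfsg.Agent.Lib.FieldAutCard
import Cfsg.Agent.H640.FC.Tw

/-!
# Radical automorphisms of order three of `³D₄(2)` (task 1210, hub helper959)

`irow_of_fix` : `IRow K` from `FixAt 2 K`, `K ≅ ³D₄(2)`.
-/

set_option autoImplicit false
set_option linter.unusedSectionVars false

namespace Cfsg.Agent.H640.TD

open CoxeterSystem Cfsg.Agent.ChevalleyStructure.CoxeterGeom Cfsg.Agent.Tits.Roots Cfsg.Agent.Tits.Core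
  Cfsg.Agent.Tits.Exchange Cfsg.Agent.Nodes.Reps Cfsg.Agent.Nodes.BNOf Cfsg.Agent.Nodes.StabComb
  Cfsg.Agent.Nodes.Bruhat Cfsg.Agent.Nodes.OppDec Cfsg.Agent.Nodes.RGDTwGen Cfsg.Agent.Nodes.RGDChev
  Cfsg.Agent.Nodes.RGDFold Cfsg.Agent.Nodes.RGDFoldSL
open Cfsg.Agent.KFacts.RgdOpp Cfsg.Agent.KFacts.RgdAut Cfsg.Agent.KFacts.RgdDiag Cfsg.Agent.KFacts.RgdRigid
  Cfsg.Agent.KFacts.RgdField Cfsg.Agent.KFacts.RgdTau Cfsg.Agent.KFacts.RgdNodes
open Cfsg.Lie Cfsg.Agent.ChevalleyStructure Cfsg.Agent.ChevalleyStructure.Elts Cfsg.Agent.ChevStructure.FieldMap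
open Cfsg.Agent.ChevalleyStructure.SL2Hom (up lo)
open Cfsg.Agent.KFacts.TwDFour.Out
open Cfsg.Agent.Nodes.RGDTwD4 Cfsg.Agent.Nodes.RGDTwNode.D4
open Cfsg.Agent.CpAut.RgdFix Cfsg.Agent.CpAut.RgdConj Cfsg.Agent.CpAut.RgdSub
  Cfsg.Agent.CpAut.RgdTwStd Cfsg.Agent.CpAut.RgdTwD4
open Cfsg.Agent.Schreier.BNSch
open Subgroup Cfsg Cfsg.Agent.H459.Rad Cfsg.Agent.H459.Gallery Cfsg.Agent.H459.NonEll Cfsg.Agent.H459.Iface
open Cfsg.Agent.H459.RgdRad Cfsg.Agent.H959.Rad3
open Cfsg.Agent.H967.CopMat Cfsg.Agent.H967.CopTw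
open scoped commutatorElement

/-! ### the stabiliser of a subgroup in the automorphism group -/

section Stab

variable {G : Type*} [Group G]

/-- the stabiliser of a subgroup in the automorphism group -/
def stab (A : Subgroup G) : Subgroup (MulAut G) where
  carrier := {α | Fix α A}
  one_mem' := fun _ => Iff.rfl
  mul_mem' := fun {α β} hα hβ x => (hα (β x)).trans (hβ x)
  inv_mem' := fun {_} hα => hα.inv

theorem mem_stab {A : Subgroup G} {α : MulAut G} : α ∈ stab A ↔ Fix α A := Iff.rfl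

theorem mem_stab_of_iv [Finite G] {A : Subgroup G} {α : MulAut G} (h : Iv α A) : α ∈ stab A := by
  intro x
  refine ⟨fun hx => ?_, h x⟩
  have h1 := h.map_eq
  rw [← h1] at hx
  obtain ⟨y, hy, hyx⟩ := hx
  rwa [← α.injective hyx]

theorem conj_mem_stab {A : Subgroup G} {g : G} (hg : g ∈ A) : MulAut.conj g ∈ stab A := by
  intro x
  rw [MulAut.conj_apply]
  constructor
  · intro h
    have := mul_mem (mul_mem (inv_mem hg) h) hg
    have e : g⁻¹ * (g * x * g⁻¹) * g = x := by group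
    rwa [e] at this
  · intro h
    exact mul_mem (mul_mem hg h) (inv_mem hg)

theorem card_stab_dvd [Finite G] (hZ : center G = ⊥) {A : Subgroup G} (hA : normalizer (A : Set G) = A) :
    Nat.card (stab A) ∣ Nat.card A * Nat.card (Cfsg.Out G) := by
  have hI : (Cfsg.Inn G).Normal := inferInstance
  have h1 := ((Cfsg.Inn G).subgroupOf (stab A)).card_mul_index
  have h2 : Nat.card ↥((Cfsg.Inn G).subgroupOf (stab A)) = Nat.card A := by
    let ψ : A →* ↥(stab A) := ((MulAut.conj : G →* MulAut G).comp A.subtype).codRestrict (stab A)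
      fun a => conj_mem_stab a.2
    have hψ : Function.Injective ψ := fun a b hab =>
      Subtype.ext (Cfsg.Agent.H839.Rad.conj_injective hZ (congrArg Subtype.val hab))
    have hr : ψ.range = (Cfsg.Inn G).subgroupOf (stab A) := by
      ext z
      constructor
      · rintro ⟨y, rfl⟩
        exact mem_subgroupOf.2 ⟨y, rfl⟩
      · intro hz
        obtain ⟨y, hy⟩ := mem_subgroupOf.1 hz
        have hyA : y ∈ A := by
          rw [← hA, Subgroup.mem_normalizer_iff]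
          intro a
          have h3 : Fix (MulAut.conj y) A := by
            have := z.2
            rw [← hy] at this
            exact this
          exact (h3 a).symm
        exact ⟨⟨y, hyA⟩, Subtype.ext hy⟩
    rw [← hr]
    exact (Nat.card_congr (MonoidHom.ofInjective hψ).toEquiv).symm
  rw [h2] at h1
  rw [← h1]
  exact mul_dvd_mul_left _ (Subgroup.relIndex_dvd_index_of_normal (Cfsg.Inn G) (stab A))

end Stab

/-! ### the group generated by two commuting elements of order three -/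

theorem exists_nine {A : Type*} [Group A] {a b : A} (ha : orderOf a = 3) (hb : orderOf b = 3) (hab : a * b = b * a)
    (hd : Disjoint (zpowers a) (zpowers b)) : ∃ S : Subgroup A, Nat.card S = 9 ∧
      (∀ H : Subgroup A, a ∈ H → b ∈ H → S ≤ H) ∧ ∀ s ∈ S, ∃ i j : ℤ, s = a ^ i * b ^ j := by
  let f : zpowers a × zpowers b →* A := MonoidHom.noncommCoprod (zpowers a).subtype (zpowers b).subtype (by
    rintro ⟨_, i, rfl⟩ ⟨_, j, rfl⟩
    exact (show Commute a b from hab).zpow_zpow i j)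
  have hf : Function.Injective f := by
    refine (MonoidHom.noncommCoprod_injective _ _ _).2 ⟨(zpowers a).subtype_injective, (zpowers b).subtype_injective, ?_⟩
    rwa [range_subtype, range_subtype]
  refine ⟨f.range, ?_, ?_, ?_⟩
  · rw [← Nat.card_congr (MonoidHom.ofInjective hf).toEquiv, Nat.card_prod, Nat.card_zpowers, Nat.card_zpowers, ha, hb]
  · rintro H haH hbH _ ⟨⟨⟨_, i, rfl⟩, ⟨_, j, rfl⟩⟩, rfl⟩
    exact mul_mem (zpow_mem haH i) (zpow_mem hbH j)
  · rintro _ ⟨⟨⟨_, i, rfl⟩, ⟨_, j, rfl⟩⟩, rfl⟩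
    exact ⟨i, j, rfl⟩

variable {F : Type} [Field F] [Fintype F] (hF : Fintype.card F = 8) [CharP F 2] {φ : F →+* F}
  (hφ : ∀ x, φ x = x ^ 2)

/-- the long root elements with parameter `1` -/
def ee (r : ℕ) (h : D4Comm.xG r (1 : F) ∈ twistedD4 F 2) : ↥(twistedD4 F 2) := ⟨_, h⟩

theorem mem14 : D4Comm.xG 14 (1 : F) ∈ twistedD4 F 2 := by
  have h := single_mem (K := F) (q := 2) (t := 1) (one_pow 2) (r := 14) (by simp)
  rwa [Cfsg.Agent.Nodes.RGDTwD4.xG_eq] at h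

theorem mem9 : D4Comm.xG 9 (1 : F) ∈ twistedD4 F 2 := by
  have h := single_mem (K := F) (q := 2) (t := 1) (one_pow 2) (r := 9) (by simp)
  rwa [Cfsg.Agent.Nodes.RGDTwD4.xG_eq] at h

/-- the field automorphisms -/
noncomputable abbrev fa : (F ≃+* F) →* MulAut ↥(twistedD4 F 2) := fieldAut (stab_d4 (K := F) 2)

theorem fa_ee (σ : F ≃+* F) {r : ℕ} (h : D4Comm.xG r (1 : F) ∈ twistedD4 F 2) : fa σ (ee r h) = ee r h := by
  apply Subtype.ext
  show glEquiv chevD4 σ (D4Comm.xG r (1 : F)) = D4Comm.xG r (1 : F)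
  rw [← Cfsg.Agent.Nodes.RGDTwD4.xG_eq, glE_xG, map_one]

section Six

include hF hφ

theorem ee14_eq : ee 14 mem14 = PhiD hφ (hK hF) 0 (up 1) := by
  apply Subtype.ext
  rw [coe_up]
  show D4Comm.xG 14 (1 : F) = xG hD4 14 (((1 : KD φ 0) : F)) * 1
  rw [mul_one, Cfsg.Agent.Nodes.RGDTwD4.xG_eq]
  rfl

theorem ee9_eq : ee 9 mem9 = PhiD hφ (hK hF) 0 (lo 1) := by
  apply Subtype.ext
  rw [coe_lo]
  show D4Comm.xG 9 (1 : F) = xG hD4 9 (((1 : KD φ 0) : F)) * 1
  rw [mul_one, Cfsg.Agent.Nodes.RGDTwD4.xG_eq]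
  rfl

theorem ee14_ne : ee 14 mem14 ≠ (1 : ↥(twistedD4 F 2)) := by
  rw [ee14_eq hF hφ]
  exact (coordD hφ (hK hF) 0).ne_one one_ne_zero

/-- the group generated by the six long root elements -/
theorem exists_six : ∃ M : Subgroup ↥(twistedD4 F 2), ee 14 mem14 * ee 9 mem9 ∈ M ∧
    (∀ (σ : F ≃+* F), ∀ m ∈ M, fa σ m = m) ∧ ee 14 mem14 * ee 9 mem9 ∉ radIn M := by
  set a := ee 14 (mem14 (F := F)) with ha
  set a' := ee 9 (mem9 (F := F)) with ha'
  set b := ee 22 (mem22 hφ mem14) with hb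
  set b' := ee 1 (mem1 hφ mem9) with hb'
  set s := ee 23 (mem23 hφ mem14) with hs
  set s' := ee 0 (mem0 hφ mem9) with hs'
  set M : Subgroup ↥(twistedD4 F 2) := closure {a, a', b, b', s, s'} with hM
  have hsub : ∀ x ∈ ({a, a', b, b', s, s'} : Set ↥(twistedD4 F 2)), x ∈ M := fun x hx => by
    rw [hM]; exact subset_closure hx
  refine ⟨M, mul_mem (hsub _ (by simp)) (hsub _ (by simp)), fun σ => ?_, fun hc => ?_⟩
  · have h1 : M ≤ Cfsg.fixedSubgroup (fa σ) := by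
      rw [hM, closure_le]
      rintro x (rfl | rfl | rfl | rfl | rfl | rfl) <;> exact fa_ee σ _
    exact fun m hm => h1 hm
  · obtain ⟨h1, h2, h3, h4, h5, h6⟩ := chk_all
    refine false_of_six hM ?_ ?_ ?_ ?_ ?_ ?_ ?_ ?_ hc
    · exact Subtype.ext (comm_one (K := F) (Or.inl rfl) h1)
    · exact Subtype.ext (comm_one (K := F) (Or.inl rfl) h2)
    · exact Subtype.ext (comm_one (K := F) (Or.inr rfl) h3)
    · exact Subtype.ext (comm_one (K := F) (Or.inr rfl) h4)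
    · exact Subtype.ext (comm_one (K := F) (Or.inl rfl) h5)
    · exact Subtype.ext (comm_one (K := F) (Or.inr rfl) h6)
    · exact Subtype.ext comm9_22
    · exact ee14_ne hF hφ

/-- the element of order three -/
theorem cc_pow : (ee 14 mem14 * ee 9 mem9 : ↥(twistedD4 F 2)) ^ 3 = 1 := by
  rw [ee14_eq hF hφ, ee9_eq hF hφ, ← map_mul, ← map_pow]
  have h1 : (up (1 : KD φ 0) * lo 1) ^ 3 = 1 := by
    have h2 : (2 : KD φ 0) = 0 := CharTwo.two_eq_zero
    apply Subtype.ext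
    show ((!![1, 1; 0, 1] : Matrix (Fin 2) (Fin 2) (KD φ 0)) * !![1, 0; 1, 1]) ^ 3 = 1
    rw [pow_succ, pow_two, Matrix.mul_fin_two, Matrix.mul_fin_two, Matrix.mul_fin_two, Matrix.one_fin_two]
    have h3 : (1 : KD φ 0) + 1 = 0 := by rw [one_add_one_eq_two]; exact h2
    simp [h3]
  rw [h1, map_one]

theorem cc_ne : (ee 14 mem14 * ee 9 mem9 : ↥(twistedD4 F 2)) ≠ 1 := by
  obtain ⟨M, -, -, h⟩ := exists_six hF hφ
  intro h1
  rw [h1] at h
  exact h (one_mem _)

theorem cc_mem : (ee 14 mem14 * ee 9 mem9 : ↥(twistedD4 F 2)) ∈ (PP hF hφ).parabolic {n hφ 0} := by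
  refine mul_mem (X_le hF hφ 0 ?_) (X_le' hF hφ 0 ?_)
  · rw [ee14_eq hF hφ]
    exact (mem_X hφ (hK hF) 0 _).2 ⟨1, rfl⟩
  · rw [ee9_eq hF hφ]
    exact (mem_neg (rg hF hφ) (mem_X hφ (hK hF)) (PhiD_wS hφ (hK hF)) 0 _).2 ⟨1, rfl⟩

end Six

section Main

include hF hφ

theorem center_bot : center ↥(twistedD4 F 2) = ⊥ :=
  Cfsg.Agent.H640.FC.center_of_simple (isSimple hF hφ)
    (Cfsg.Agent.S1071.result (K := F) (q := 2) (Nat.prime_two.isPrimePow) (hK hF)).2

theorem iv_B_fa (τ : F ≃+* F) : Iv (fa τ) (PP hF hφ).B := by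
  have hD : Diag (T F 2) (X φ 2) (st 2 τ) 1 := (ntau_st hφ (hK hF) τ cs 2).diag
  intro b hb
  obtain ⟨u, hu, t, ht, rfl⟩ := mem_B hF hφ hb
  rw [map_mul]
  refine mul_mem ?_ ?_
  · have h1 : Fix (st 2 τ) (UU φ) := fix_Sup fun x hx => fix_X (rg hF hφ) hD hx.1
    exact (le_sup_right : UU φ ≤ (PP hF hφ).B) ((h1 u).2 hu)
  · exact (le_sup_left : T F 2 ≤ (PP hF hφ).B) ((hD.tor t).2 ht)

theorem card_P0 : ¬ 9 ∣ Nat.card ↥((PP hF hφ).parabolic {n hφ 0}) := by
  set P0 := (PP hF hφ).parabolic {n hφ 0} with hP0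
  intro h
  have h1 : Nat.card ↥((PP hF hφ).B) * (PP hF hφ).B.relIndex P0 = Nat.card P0 := by
    have h2 := ((PP hF hφ).B.subgroupOf P0).card_mul_index
    rwa [Nat.card_congr (subgroupOfEquivOfLe (B_le_parabolic (PP hF hφ) {n hφ 0})).toEquiv] at h2
  have h2 : (PP hF hφ).B.relIndex P0 ≤ 3 :=
    (index_le (rg hF hφ) (hgen hF hφ) 0).trans (by have := card_X0 hF hφ; omega)
  rw [← h1] at h
  have h3 : Nat.Coprime 9 (Nat.card ↥((PP hF hφ).B)) := by
    have h4 : Nat.Coprime 3 (Nat.card ↥((PP hF hφ).B)) :=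
      (Nat.Prime.coprime_iff_not_dvd Nat.prime_three).2 (not_three_dvd_B hF hφ)
    have h5 := Nat.Coprime.pow_left 2 h4
    norm_num at h5
    exact h5
  have h4 := h3.dvd_of_dvd_mul_left h
  have h5 : 0 < (PP hF hφ).B.relIndex P0 := Nat.pos_of_ne_zero fun h6 => by
    rw [h6, mul_zero] at h1
    exact Nat.card_pos.ne' h1.symm
  have h6 := Nat.le_of_dvd h5 h4
  omega

theorem false_of_P0 {y : MulAut ↥(twistedD4 F 2)} (hR : RC y) (hy3 : y ^ 3 = 1) (hy1 : y ≠ 1)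
    (hP : Iv y ((PP hF hφ).parabolic {n hφ 0})) : False := by
  have := isSimple hF hφ
  have hZ := center_bot hF hφ
  have h3 : Fact (Nat.Prime 3) := ⟨Nat.prime_three⟩
  have hfin := Cfsg.Agent.H640.FC.card_ringAut_pos (K := F)
  have hcA : Nat.card (F ≃+* F) = 3 := Cfsg.Agent.Lib.FieldAutCard.card_ringAut (by omega) (hK hF)
  obtain ⟨τ, hτ⟩ := exists_prime_orderOf_dvd_card' (G := F ≃+* F) 3 (by rw [hcA])
  have hτ3 : τ ^ 3 = 1 := by rw [← hτ]; exact pow_orderOf_eq_one τ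
  have hτ1 : τ ≠ 1 := by rintro rfl; rw [orderOf_one] at hτ; omega
  have hnin : ∀ σ : F ≃+* F, σ ≠ 1 → fa σ ∉ Cfsg.Inn ↥(twistedD4 F 2) := fun σ h =>
    Cfsg.Agent.H967.FaTw.not_inner_d4 (Nat.prime_two.isPrimePow) (hK hF) σ h
  obtain ⟨s, hs⟩ : ∃ s, s = fa τ := ⟨_, rfl⟩
  have hs3 : s ^ 3 = 1 := by rw [hs, ← map_pow, hτ3, map_one]
  have hs1 : s ≠ 1 := by
    intro h
    apply hnin τ hτ1
    rw [← hs, h]
    exact one_mem _
  have hsB : Iv s (PP hF hφ).B := by rw [hs]; exact iv_B_fa hF hφ τ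
  obtain ⟨c, hc⟩ : ∃ c, c = (ee 14 mem14 * ee 9 mem9 : ↥(twistedD4 F 2)) := ⟨_, rfl⟩
  have hc3 : c ^ 3 = 1 := by rw [hc]; exact cc_pow hF hφ
  have hc1 : c ≠ 1 := by rw [hc]; exact cc_ne hF hφ
  have hsc : ∀ k : ℤ, ∀ j : ℤ, (s ^ j) (c ^ k) = c ^ k := by
    intro k j
    rw [hs, ← map_zpow, map_zpow, hc, map_mul, fa_ee, fa_ee]
  set c' : MulAut ↥(twistedD4 F 2) := MulAut.conj c with hc'
  have hc'3 : c' ^ 3 = 1 := by rw [hc', ← map_pow, hc3, map_one]
  have hinj := Cfsg.Agent.H839.Rad.conj_injective hZ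
  have hc'1 : c' ≠ 1 := fun h => hc1 (hinj (h.trans (map_one _).symm))
  have hcs : c' * s = s * c' := by
    ext g
    have h4 := hsc 1 1
    rw [zpow_one, zpow_one] at h4
    rw [MulAut.mul_apply, MulAut.mul_apply, hc', MulAut.conj_apply, MulAut.conj_apply, map_mul, map_mul, map_inv, h4]
  have hoc : orderOf c' = 3 := orderOf_eq_prime hc'3 hc'1
  have hos : orderOf s = 3 := orderOf_eq_prime hs3 hs1
  have hdis : Disjoint (zpowers c') (zpowers s) := by
    rw [disjoint_iff, eq_bot_iff]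
    rintro z ⟨⟨i, hi⟩, ⟨j, hj⟩⟩
    have hi' : c' ^ i = z := hi
    have hj' : s ^ j = z := hj
    rw [mem_bot]
    by_contra hz
    have h4 : fa (τ ^ j) ∈ Cfsg.Inn ↥(twistedD4 F 2) := by
      rw [map_zpow, ← hs, hj', ← hi', hc', ← map_zpow]
      exact ⟨_, rfl⟩
    have h5 : τ ^ j = 1 := by
      by_contra h6
      exact hnin _ h6 h4
    apply hz
    rw [← hj', hs, ← map_zpow, h5, map_one]
  obtain ⟨S, hScard, hSle, hSmem⟩ := exists_nine hoc hos hcs hdis
  set P0 := (PP hF hφ).parabolic {n hφ 0} with hP0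
  have hN : normalizer (P0 : Set ↥(twistedD4 F 2)) = P0 :=
    Cfsg.Agent.S0312.result (PP hF hφ) (Set.singleton_subset_iff.2 (mem_S (rg hF hφ) (hgen hF hφ)))
  have hSst : S ≤ stab P0 := hSle _ (conj_mem_stab (by rw [hc]; exact cc_mem hF hφ))
    (mem_stab_of_iv (rig_three (rg hF hφ) (hgen hF hφ) hs3 hsB 0))
  have h27 : ¬ 27 ∣ Nat.card (stab P0) := by
    intro h
    have h4 := h.trans (card_stab_dvd hZ hN)
    rw [Cfsg.Agent.H69.OutTwD4.card_out (Nat.prime_two.isPrimePow) (hK hF) 2, hcA] at h4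
    have h5 : 9 * 3 ∣ Nat.card P0 * 3 := h4
    exact card_P0 hF hφ (Nat.dvd_of_mul_dvd_mul_right (by norm_num) h5)
  obtain ⟨h, -, hh⟩ := exists_conj_mem_nine hSst hScard h27 (mem_stab_of_iv hP) hy3
  obtain ⟨y', hy'⟩ : ∃ y', y' = h * y * h⁻¹ := ⟨_, rfl⟩
  rw [← hy'] at hh
  have hR' : RC y' := by
    have h4 := hR.tr h
    have h5 : Cfsg.Agent.H459.Rad.tr h y = y' := by rw [hy']; rfl
    rwa [h5] at h4
  have hy'3 : y' ^ 3 = 1 := by rw [hy', conj_pow, hy3, mul_one, mul_inv_cancel]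
  have hy'1 : y' ≠ 1 := by
    intro h4
    apply hy1
    rw [hy', mul_inv_eq_one] at h4
    exact mul_left_cancel (h4.trans (mul_one h).symm)
  obtain ⟨i, j, hij⟩ := hSmem y' hh
  by_cases hci : c' ^ i = 1
  · rw [hci, one_mul] at hij
    apply hy'1
    refine eq_one_of_B (rg hF hφ) (hgen hF hφ) (solvable_B hF hφ) (card_X0 hF hφ) (not_solvable_P1 hF hφ) hR' hy'3 ?_
    rw [hij, hs, ← map_zpow]
    exact iv_B_fa hF hφ _
  · obtain ⟨M, hcM, hMf, hcR⟩ := exists_six hF hφ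
    rw [← hc] at hcM hcR
    have hMt : M ≠ ⊤ := by
      rintro rfl
      apply hs1
      rw [hs]
      exact MulEquiv.ext fun g => hMf τ g (mem_top g)
    have hact : ∀ m ∈ M, y' m = c ^ i * m * (c ^ i)⁻¹ := by
      intro m hm
      rw [hij, MulAut.mul_apply, hs, ← map_zpow fa, hMf _ m hm, hc', ← map_zpow, MulAut.conj_apply]
    have hciM : c ^ i ∈ M := zpow_mem hcM i
    have h4 : c ^ i ∈ radIn M := mem_radIn_of_conj hciM fun m hm => by
      rw [← hact m hm]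
      exact hR' M hMt (fun m hm => by
        rw [hact m hm]
        exact mul_mem (mul_mem hciM hm) (inv_mem hciM)) m hm
    apply hcR
    have h5 : (c ^ i) ^ i = c := by
      have h6 : ¬ (3 : ℤ) ∣ i := by
        rintro ⟨k, rfl⟩
        apply hci
        rw [zpow_mul, show c' ^ (3 : ℤ) = c' ^ 3 from zpow_natCast c' 3, hc'3, one_zpow]
      have h7 : ∃ k : ℤ, i * i = 3 * k + 1 := by
        have h8 : i % 3 = 1 ∨ i % 3 = 2 := by omega
        have h9 := Int.emod_add_mul_ediv i 3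
        rcases h8 with h8 | h8
        · exact ⟨3 * (i / 3) * (i / 3) + 2 * (i / 3), by
            rw [h8] at h9
            linear_combination (-(i + 3 * (i / 3) + 1)) * h9⟩
        · exact ⟨3 * (i / 3) * (i / 3) + 4 * (i / 3) + 1, by
            rw [h8] at h9
            linear_combination (-(i + 3 * (i / 3) + 2)) * h9⟩
      obtain ⟨k, hk⟩ := h7
      rw [← zpow_mul, hk, zpow_add, zpow_mul, show c ^ (3 : ℤ) = c ^ 3 from zpow_natCast c 3, hc3, one_zpow, one_mul,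
        zpow_one]
    rw [← h5]
    exact zpow_mem h4 i

/-- **`³D₄(2)`** -/
theorem false_of_fix {x : MulAut ↥(twistedD4 F 2)} (hR : RC x) (hx3 : x ^ 3 = 1) (hx1 : x ≠ 1) (hfx : FixR 2 x) :
    False := by
  have hsim := isSimple hF hφ
  have hns : ∀ V : Subgroup ↥(twistedD4 F 2), V ≠ ⊥ → V ≠ ⊤ → normalizer (V : Set ↥(twistedD4 F 2)) ≠ ⊤ := by
    intro V h1 h2 h3
    rcases (Subgroup.normalizer_eq_top_iff.1 h3).eq_bot_or_eq_top with h4 | h4
    · exact h1 h4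
    · exact h2 h4
  have hnp : ¬ IsPGroup 2 ↥(twistedD4 F 2) := by
    intro h
    obtain ⟨k, hk⟩ := h (ee 14 mem14 * ee 9 mem9)
    have h1 := orderOf_dvd_of_pow_eq_one hk
    have h3 : Fact (Nat.Prime 3) := ⟨Nat.prime_three⟩
    rw [orderOf_eq_prime (cc_pow hF hφ) (cc_ne hF hφ)] at h1
    have h5 := (Nat.prime_dvd_prime_iff_eq Nat.prime_three Nat.prime_two).1 (Nat.prime_three.dvd_of_dvd_pow h1)
    omega
  obtain ⟨M₀, g₀, h1, h2, h3⟩ := exists_par (rg hF hφ) (hgen hF hφ) (hBT hF hφ) hns hnp hfx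
  have hy3 := cx_pow hx3 g₀
  have hy1 : cx x g₀ ≠ 1 := by
    intro h
    apply hx1
    have h4 : cx (cx x g₀) g₀⁻¹ = x := by rw [cx_cx, mul_inv_cancel, cx_one]
    rw [← h4, h]
    unfold cx
    simp
  have hyR := hR.cx g₀
  obtain ⟨y, hy⟩ : ∃ y, y = cx x g₀ := ⟨_, rfl⟩
  rw [← hy] at h3 hy3 hy1 hyR
  have keyB : Iv y (PP hF hφ).B → False := fun hB => hy1
    (eq_one_of_B (rg hF hφ) (hgen hF hφ) (solvable_B hF hφ) (card_X0 hF hφ) (not_solvable_P1 hF hφ) hyR hy3 hB)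
  obtain ⟨J, hJ, rfl⟩ := Cfsg.Agent.S0311.result (PP hF hφ) M₀ h1
  have hJ' : ∀ t ∈ J, t = n hφ 0 ∨ t = n hφ 1 := by
    intro t ht
    obtain ⟨i, rfl⟩ : ∃ i, n hφ i = t := hJ ht
    rcases two_cases i with rfl | rfl
    · exact Or.inl rfl
    · exact Or.inr rfl
  by_cases h0 : n hφ 0 ∈ J
  · by_cases h5 : n hφ 1 ∈ J
    · apply h2
      have h6 : J = (PP hF hφ).S := by
        apply Set.Subset.antisymm hJ
        rintro _ ⟨i, rfl⟩
        rcases two_cases i with rfl | rfl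
        · exact h0
        · exact h5
      rw [h6]
      exact sup_closure_eq_top (PP hF hφ)
    · have h6 : J = {n hφ 0} := by
        apply Set.Subset.antisymm
        · intro t ht
          rcases hJ' t ht with h7 | h7
          · exact h7
          · exact absurd (h7 ▸ ht) h5
        · exact Set.singleton_subset_iff.2 h0
      rw [h6] at h3
      exact false_of_P0 hF hφ hyR hy3 hy1 h3
  · by_cases h5 : n hφ 1 ∈ J
    · have h6 : J = {n hφ 1} := by
        apply Set.Subset.antisymm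
        · intro t ht
          rcases hJ' t ht with h7 | h7
          · exact absurd (h7 ▸ ht) h0
          · exact h7
        · exact Set.singleton_subset_iff.2 h5
      rw [h6] at h2 h3
      exact keyB (iv_B (rg hF hφ) (hgen hF hφ) (solvable_B hF hφ) (not_solvable_P1 hF hφ) h2 hyR h3)
    · have h6 : J = ∅ := by
        rw [Set.eq_empty_iff_forall_notMem]
        intro t ht
        rcases hJ' t ht with h7 | h7
        · exact h0 (h7 ▸ ht)
        · exact h5 (h7 ▸ ht)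
      rw [h6, parabolic_empty] at h3
      exact keyB h3

end Main

/-- **The row of `³D₄(2)`** from `FixAt 2 K`. -/
theorem irow_of_fix {K : Type*} [Group K] [Finite K] {F : Type} [Field F] [Fintype F]
    (hF : Fintype.card F = 8) (e : Nonempty (K ≃* ↥(Cfsg.Lie.twistedD4 F 2))) (hfix : FixAt 2 K) : IRow K := by
  obtain ⟨e⟩ := e
  have hch : CharP F 2 := Cfsg.Agent.H967.CopSz.charP_of_card Nat.prime_two (n := 3) (by rw [hF]; norm_num)
  obtain ⟨φ, hφ⟩ := D4Fixed.exists_frob (K := F) (q := 2) (Nat.prime_two.isPrimePow) (hK hF)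
  have hfix' : FixAt 2 ↥(twistedD4 F 2) := FixAt.congr e.symm hfix
  refine IRow.congr e fun x hx hR hI => ?_
  have hx3 : x ^ 3 = 1 := by rw [← hx]; exact pow_orderOf_eq_one x
  have hx1 : x ≠ 1 := by rintro rfl; rw [orderOf_one] at hx; omega
  exact false_of_fix hF hφ hR hx3 hx1 (hfix' x hx hR hI)

end Cfsg.Agent.H640.TD
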